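import Cfsg.Agent.GT.Rel

/-! The `π`-part `constt π x` of a group element. -/

set_option autoImplicit false

namespace Cfsg.Agent.GT

open Subgroup

universe u v

variable {G : Type u} [Group G] [Finite G] {π ρ : Set ℕ} {x y z : G} {H : Subgroup G}

/-- the `π`-part of `x` -/
noncomputable def constt (π : Set ℕ) (x : G) : G := (exists_pi_part π x).choose

theorem constt_spec (π : Set ℕ) (x : G) : constt π x ∈ zpowers x ∧ ∃ z ∈ zpowers x,
    PiNat π (orderOf (constt π x)) ∧ PiNat πᶜ (orderOf z) ∧ x = constt π x * z :=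
  (exists_pi_part π x).choose_spec

theorem constt_mem_zpowers (π : Set ℕ) (x : G) : constt π x ∈ zpowers x := (constt_spec π x).1

theorem constt_mem (π : Set ℕ) (hx : x ∈ H) : constt π x ∈ H :=
  zpowers_le.2 hx (constt_mem_zpowers π x)

theorem piNat_constt (π : Set ℕ) (x : G) : PiNat π (orderOf (constt π x)) :=
  let ⟨_, _, _, h, _⟩ := constt_spec π x; h

omit [Finite G] in
theorem commute_of_mem_zpowers (hy : y ∈ zpowers x) (hz : z ∈ zpowers x) : Commute y z := by
  obtain ⟨m, rfl⟩ := hy
  obtain ⟨n, rfl⟩ := hz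
  exact (Commute.refl x).zpow_zpow m n

theorem commute_constt (π : Set ℕ) (x : G) : Commute (constt π x) x :=
  commute_of_mem_zpowers (constt_mem_zpowers π x) (mem_zpowers x)

theorem commute_constt_constt (π ρ : Set ℕ) (x : G) : Commute (constt π x) (constt ρ x) :=
  commute_of_mem_zpowers (constt_mem_zpowers π x) (constt_mem_zpowers ρ x)

omit [Finite G] in
theorem commute_of_mem_zpowers_left (hy : y ∈ zpowers x) (h : Commute x z) : Commute y z := by
  obtain ⟨m, rfl⟩ := hy
  exact h.zpow_left m

theorem Commute.constt_left (h : Commute x z) (π : Set ℕ) : Commute (constt π x) z :=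
  commute_of_mem_zpowers_left (constt_mem_zpowers π x) h

omit [Finite G] in
theorem PiNat.orderOf_mul (hc : Commute y z) (hy : PiNat π (orderOf y)) (hz : PiNat π (orderOf z)) :
    PiNat π (orderOf (y * z)) := (hy.mul hz).of_dvd hc.orderOf_mul_dvd_mul_orderOf

omit [Finite G] in
theorem PiNat.orderOf_inv (hy : PiNat π (orderOf y)) : PiNat π (orderOf y⁻¹) := by
  rwa [_root_.orderOf_inv]

omit [Finite G] in
theorem PiNat.orderOf_of_mem_zpowers (hy : PiNat π (orderOf x)) (h : y ∈ zpowers x) :
    PiNat π (orderOf y) := hy.of_dvd (orderOf_dvd_of_mem_zpowers h)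

theorem piNat_inv_constt_mul (π : Set ℕ) (x : G) : PiNat πᶜ (orderOf ((constt π x)⁻¹ * x)) := by
  obtain ⟨_, z, _, _, h, e⟩ := constt_spec π x
  have : (constt π x)⁻¹ * x = z := by rw [inv_mul_eq_iff_eq_mul]; exact e
  rwa [this]

/-- uniqueness of the decomposition -/
theorem constt_eq_of_mul (hc : Commute y z) (hy : PiNat π (orderOf y)) (hz : PiNat πᶜ (orderOf z))
    (h : x = y * z) : constt π x = y := by
  obtain ⟨h1, w, h2, h3, h4, e⟩ := constt_spec π x
  have cy : Commute x y := h ▸ (Commute.refl y).mul_left hc.symm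
  have cz : Commute x z := h ▸ hc.mul_left (Commute.refl z)
  have c1 : Commute (constt π x) y := commute_of_mem_zpowers_left h1 cy
  have c2 : Commute w z := commute_of_mem_zpowers_left h2 cz
  have e2 : y⁻¹ * constt π x = z * w⁻¹ := by
    have : constt π x * w = y * z := e.symm.trans h
    rw [inv_mul_eq_iff_eq_mul, ← mul_assoc, ← this, mul_inv_cancel_right]
  have p1 : PiNat π (orderOf (y⁻¹ * constt π x)) :=
    PiNat.orderOf_mul c1.symm.inv_left hy.orderOf_inv h3
  have p2 : PiNat πᶜ (orderOf (y⁻¹ * constt π x)) :=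
    e2 ▸ PiNat.orderOf_mul c2.symm.inv_right hz h4.orderOf_inv
  exact (inv_mul_eq_one.1 (eq_one_of_piNat_orderOf p1 p2)).symm

theorem constt_compl (π : Set ℕ) (x : G) : constt πᶜ x = (constt π x)⁻¹ * x := by
  refine constt_eq_of_mul (z := constt π x) ?_ (piNat_inv_constt_mul π x)
    (by rw [compl_compl]; exact piNat_constt π x) ?_
  · exact (Commute.refl _).inv_left.mul_left (commute_constt π x).symm
  · rw [mul_assoc, ← (commute_constt π x).eq, inv_mul_cancel_left]

theorem constt_mul_constt_compl (π : Set ℕ) (x : G) : constt π x * constt πᶜ x = x := by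
  rw [constt_compl, mul_inv_cancel_left]

theorem constt_compl_mul_constt (π : Set ℕ) (x : G) : constt πᶜ x * constt π x = x := by
  rw [(commute_constt_constt πᶜ π x).eq, constt_mul_constt_compl]

theorem constt_of_piNat (h : PiNat π (orderOf x)) : constt π x = x :=
  constt_eq_of_mul (Commute.one_right x) h (by rw [orderOf_one]; exact PiNat.one) (mul_one x).symm

theorem constt_of_piNat_compl (h : PiNat πᶜ (orderOf x)) : constt π x = 1 :=
  constt_eq_of_mul (Commute.one_left x) (by rw [orderOf_one]; exact PiNat.one) h (one_mul x).symm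

theorem constt_eq_self_iff : constt π x = x ↔ PiNat π (orderOf x) :=
  ⟨fun h => h ▸ piNat_constt π x, constt_of_piNat⟩

theorem constt_eq_one_iff : constt π x = 1 ↔ PiNat πᶜ (orderOf x) :=
  ⟨fun h => by simpa [h] using piNat_inv_constt_mul π x, constt_of_piNat_compl⟩

@[simp] theorem constt_one (π : Set ℕ) : constt π (1 : G) = 1 :=
  constt_of_piNat (by rw [orderOf_one]; exact PiNat.one)

theorem constt_mul (hc : Commute x y) (π : Set ℕ) : constt π (x * y) = constt π x * constt π y := by
  have c : ∀ σ τ : Set ℕ, Commute (constt σ x) (constt τ y) := fun σ τ =>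
    (Commute.constt_left (Commute.constt_left hc σ).symm τ).symm
  refine constt_eq_of_mul (z := constt πᶜ x * constt πᶜ y) ?_
    (PiNat.orderOf_mul (c _ _) (piNat_constt π x) (piNat_constt π y))
    (PiNat.orderOf_mul (c _ _) (piNat_constt πᶜ x) (piNat_constt πᶜ y)) ?_
  · exact ((commute_constt_constt _ _ x).mul_right (c _ _)).mul_left
      ((c _ _).symm.mul_right (commute_constt_constt _ _ y))
  · conv_lhs => rw [← constt_mul_constt_compl π x, ← constt_mul_constt_compl π y]
    rw [mul_assoc, mul_assoc, ← mul_assoc (constt πᶜ x), (c πᶜ π).eq, mul_assoc]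

theorem constt_map {G' : Type v} [Group G'] [Finite G'] (f : G →* G') (π : Set ℕ) (x : G) :
    constt π (f x) = f (constt π x) := by
  refine constt_eq_of_mul (z := f (constt πᶜ x)) ((commute_constt_constt π πᶜ x).map f)
    ((piNat_constt π x).of_dvd (orderOf_map_dvd f _))
    ((piNat_constt πᶜ x).of_dvd (orderOf_map_dvd f _)) ?_
  rw [← map_mul, constt_mul_constt_compl]

theorem constt_conj (π : Set ℕ) (g x : G) : constt π (g * x * g⁻¹) = g * constt π x * g⁻¹ :=
  constt_map (MulAut.conj g).toMonoidHom π x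

theorem constt_inv (π : Set ℕ) (x : G) : constt π x⁻¹ = (constt π x)⁻¹ := by
  refine constt_eq_of_mul (z := (constt πᶜ x)⁻¹) (commute_constt_constt π πᶜ x).inv_inv
    (piNat_constt π x).orderOf_inv (piNat_constt πᶜ x).orderOf_inv ?_
  rw [← mul_inv_rev, constt_compl_mul_constt]

theorem constt_pow (π : Set ℕ) (x : G) (n : ℕ) : constt π (x ^ n) = constt π x ^ n := by
  induction n with
  | zero => simp
  | succ n ih => rw [pow_succ, constt_mul ((Commute.refl x).pow_left n) π, ih, pow_succ]

theorem constt_congr (h : ∀ p, p.Prime → p ∣ orderOf x → (p ∈ π ↔ p ∈ ρ)) :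
    constt π x = constt ρ x := by
  refine constt_eq_of_mul (z := constt ρᶜ x) (commute_constt_constt _ _ x) ?_ ?_
    (constt_mul_constt_compl ρ x).symm
  · exact (piNat_constt ρ x).mono'' fun p hp hd hm =>
      (h p hp (hd.trans (orderOf_dvd_of_mem_zpowers (constt_mem_zpowers _ _)))).2 hm
  · exact (piNat_constt ρᶜ x).mono'' fun p hp hd hm hπ =>
      hm ((h p hp (hd.trans (orderOf_dvd_of_mem_zpowers (constt_mem_zpowers _ _)))).1 hπ)

theorem constt_constt (π ρ : Set ℕ) (x : G) : constt π (constt ρ x) = constt (π ∩ ρ) x := by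
  symm
  refine constt_eq_of_mul (z := constt πᶜ (constt ρ x) * constt ρᶜ x) ?_ ?_ ?_ ?_
  · have h1 : constt π (constt ρ x) ∈ zpowers x := constt_mem _ (constt_mem_zpowers _ _)
    exact commute_of_mem_zpowers h1
      (mul_mem (constt_mem _ (constt_mem_zpowers _ _)) (constt_mem_zpowers _ _))
  · exact (piNat_constt π _).inter
      ((piNat_constt ρ x).orderOf_of_mem_zpowers (constt_mem_zpowers _ _))
  · refine PiNat.orderOf_mul (commute_of_mem_zpowers (x := x)
      (constt_mem _ (constt_mem_zpowers _ _)) (constt_mem_zpowers _ _)) ?_ ?_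
    · exact (piNat_constt πᶜ _).mono fun p hp h => hp h.1
    · exact (piNat_constt ρᶜ _).mono fun p hp h => hp h.2
  · rw [← mul_assoc, constt_mul_constt_compl, constt_mul_constt_compl]

theorem constt_constt_of_subset (h : π ⊆ ρ) (x : G) : constt π (constt ρ x) = constt π x := by
  rw [constt_constt, Set.inter_eq_left.2 h]

theorem cent1_le_cent1_constt (π : Set ℕ) (x : G) : C1[x] ≤ C1[constt π x] := by
  rw [← cent_zpowers]; exact cent_le_cent1 (constt_mem_zpowers π x)

theorem constt_ne_one_of_dvd {p : ℕ} (hp : p.Prime) (hπ : p ∈ π) (hd : p ∣ orderOf x) :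
    constt π x ≠ 1 := fun h => constt_eq_one_iff.1 h p hp hd hπ

theorem orderOf_constt_mul (π : Set ℕ) (x : G) :
    orderOf (constt π x) * orderOf (constt πᶜ x) = orderOf x := by
  rw [← (commute_constt_constt π πᶜ x).orderOf_mul_eq_mul_orderOf_of_coprime
    ((piNat_constt π x).coprime (piNat_constt πᶜ x)), constt_mul_constt_compl]

theorem prime_dvd_orderOf_constt {p : ℕ} (hp : p.Prime) (hπ : p ∈ π) (hd : p ∣ orderOf x) :
    p ∣ orderOf (constt π x) := by
  rw [← orderOf_constt_mul π x] at hd
  exact ((Nat.Prime.dvd_mul hp).1 hd).resolve_right fun h => piNat_constt πᶜ x p hp h hπ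

/-- an element lies in `H` as soon as all its `p`-parts do -/
theorem mem_of_forall_constt_mem (h : ∀ p, p.Prime → p ∣ orderOf x → constt {p} x ∈ H) :
    x ∈ H := by
  induction hn : orderOf x using Nat.strong_induction_on generalizing x with
  | _ n ih =>
    by_cases hx : x = 1
    · exact hx ▸ H.one_mem
    have h1 : orderOf x ≠ 1 := fun h => hx (orderOf_eq_one_iff.1 h)
    obtain ⟨p, hp, hd⟩ := Nat.exists_prime_and_dvd h1
    rw [← constt_mul_constt_compl {p} x]
    refine H.mul_mem (h p hp hd) (ih _ ?_ (fun q hq hqd => ?_) rfl)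
    · rw [← hn, ← orderOf_constt_mul {p} x]
      have := Nat.le_of_dvd (orderOf_pos _) (prime_dvd_orderOf_constt hp (Set.mem_singleton p) hd)
      have h2 := hp.two_le
      have h3 := orderOf_pos (constt {p}ᶜ x)
      nlinarith
    · have hq' : q ∈ ({p}ᶜ : Set ℕ) := piNat_constt _ _ q hq hqd
      rw [constt_constt_of_subset (Set.singleton_subset_iff.2 hq')]
      exact h q hq (hqd.trans (orderOf_dvd_of_mem_zpowers (constt_mem_zpowers _ _)))

/-- in `K ⋊ H = M` with `K` a normal Hall `π`-subgroup, membership through the `π'`-part -/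
theorem _root_.Cfsg.IsPiHallOf.constt_mem {K M : Subgroup G} (h : IsPiHallOf π K M)
    (hn : M ≤ N[K]) (hx : x ∈ M) : constt π x ∈ K :=
  h.mem_of_normal hn (GT.constt_mem π hx) (piNat_constt π x)

end Cfsg.Agent.GT
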