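import Cfsg.Agent.GT.PmaxNorm
import Cfsg.Agent.GT.CoprimeGen
import Cfsg.Agent.GT.Constt

/-! The Thompson–Bender theorem and Thompson's transitivity theorem for `p`-constrained locals. -/

namespace Cfsg.Agent.GT

open Subgroup
open scoped commutatorElement

universe u

section Pal
variable {G : Type u} [Group G] {D K : Subgroup G}

/-- the palindromic product `x₁ ⋯ xₙ xₙ ⋯ x₁` -/
def palProd : List G → G
  | [] => 1
  | x :: l => x * palProd l * x

theorem palProd_mem {l : List G} (h : ∀ x ∈ l, x ∈ D) : palProd l ∈ D := by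
  induction l with
  | nil => exact one_mem _
  | cons x l ih =>
    have hx := h x List.mem_cons_self
    exact mul_mem (mul_mem hx (ih fun y hy => h y (List.mem_cons_of_mem _ hy))) hx

theorem palProd_perm (hD : ⁅D, D⁆ ≤ C[D]) {l₁ l₂ : List G} (p : l₁.Perm l₂)
    (h : ∀ x ∈ l₁, x ∈ D) : palProd l₁ = palProd l₂ := by
  induction p with
  | nil => rfl
  | cons x _ ih => simp only [palProd]; rw [ih fun y hy => h y (List.mem_cons_of_mem _ hy)]
  | swap x y l =>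
    have hy := h y List.mem_cons_self
    have hx := h x (List.mem_cons_of_mem _ List.mem_cons_self)
    have hl : palProd l ∈ D :=
      palProd_mem fun z hz => h z (List.mem_cons_of_mem _ (List.mem_cons_of_mem _ hz))
    have hc : ⁅y, x⁆ ∈ C[D] := hD (commutator_mem_commutator hy hx)
    have h1 := mem_centralizer_iff.1 hc _ (mul_mem (mul_mem hx hy) hl)
    simp only [palProd]
    calc y * (x * palProd l * x) * y = ⁅y, x⁆ * (x * y * palProd l) * (x * y) := by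
          rw [commutatorElement_def]; group
      _ = x * y * palProd l * (⁅y, x⁆ * (x * y)) := by rw [← h1]; group
      _ = _ := by rw [commutatorElement_def]; group
  | trans p _ ih₁ ih₂ => rw [ih₁ h, ih₂ fun x hx => h x (p.mem_iff.2 hx)]

theorem palProd_conj (g : G) (l : List G) :
    g * palProd l * g⁻¹ = palProd (l.map fun x => g * x * g⁻¹) := by
  induction l with
  | nil => simp [palProd]
  | cons x l ih => simp only [palProd, List.map_cons]; rw [← ih]; group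

theorem palProd_mul {z : G} (hz : z ∈ C[D]) {l : List G} (h : ∀ x ∈ l, x ∈ D) :
    palProd (l.map fun x => x * z) = palProd l * z ^ (2 * l.length) := by
  induction l with
  | nil => simp [palProd]
  | cons x l ih =>
    have hx := h x List.mem_cons_self
    have hl := fun y hy => h y (List.mem_cons_of_mem _ hy)
    have h1 : Commute z (palProd l) := (mem_centralizer_iff.1 hz _ (palProd_mem hl)).symm
    have h2 : Commute z x := (mem_centralizer_iff.1 hz _ hx).symm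
    simp only [palProd, List.map_cons, List.length_cons]
    rw [ih hl]
    calc x * z * (palProd l * z ^ (2 * l.length)) * (x * z)
        = x * (z * palProd l) * (z ^ (2 * l.length) * x) * z := by group
      _ = x * (palProd l * z) * (x * z ^ (2 * l.length)) * z := by
          rw [h1.eq, (h2.pow_left _).eq]
      _ = x * palProd l * (z * x) * z ^ (2 * l.length) * z := by group
      _ = _ := by rw [h2.eq]; group

theorem exists_palindrome [Finite G] (hD : ⁅D, D⁆ ≤ C[D]) (hK : K ≤ N[D]) :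
    ∃ σ : G → G, (∀ x ∈ D, σ x ∈ D) ∧
      (∀ x ∈ D, ∀ g ∈ N[D], g ∈ N[K] → g * σ x * g⁻¹ = σ (g * x * g⁻¹)) ∧
      (∀ x ∈ D, ∀ k ∈ K, σ (k * x * k⁻¹) = σ x) ∧
      ∀ x ∈ D, ∀ z ∈ C[D], z ∈ C[K] → σ (x * z) = σ x * z ^ (2 * Nat.card K) := by
  classical
  haveI := Fintype.ofFinite K
  set L : List K := (Finset.univ : Finset K).toList with hL
  have hperm : ∀ e : K ≃ K, (L.map e).Perm L := fun e => by
    rw [← Multiset.coe_eq_coe, ← Multiset.map_coe, hL, Finset.coe_toList,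
      Multiset.map_univ_val_equiv]
  have hmem : ∀ x ∈ D, ∀ y ∈ L.map (fun k : K => (k : G) * x * (k : G)⁻¹), y ∈ D := by
    intro x hx y hy
    obtain ⟨k, -, rfl⟩ := List.mem_map.1 hy
    exact conj_mem_of_le_norm hK k.2 hx
  refine ⟨fun x => palProd (L.map fun k : K => (k : G) * x * (k : G)⁻¹),
    fun x hx => palProd_mem (hmem x hx), fun x hx g hg hgK => ?_, fun x hx k hk => ?_,
    fun x hx z hz hzK => ?_⟩
  · let e : K ≃ K := (K.normalizerMonoidHom ⟨g, hgK⟩).toEquiv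
    have he : ∀ k : K, (e k : G) = g * k * g⁻¹ := fun k => rfl
    simp only []
    rw [palProd_conj, ← palProd_perm hD ((hperm e).map _)
      (fun y hy => hmem _ (conj_mem_of_mem_norm hg hx) y (((hperm e).map _).mem_iff.1 hy))]
    congr 1
    simp only [List.map_map]
    refine List.map_congr_left fun k _ => ?_
    simp only [Function.comp, he]
    group
  · let e : K ≃ K := Equiv.mulRight ⟨k, hk⟩
    simp only []
    rw [← palProd_perm hD ((hperm e).map _)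
      (fun y hy => hmem _ hx y (((hperm e).map _).mem_iff.1 hy))]
    congr 1
    simp only [List.map_map]
    refine List.map_congr_left fun k' _ => ?_
    simp [Function.comp, e, mul_assoc]
  · simp only []
    have : 2 * Nat.card K = 2 * (L.map fun k : K => (k : G) * x * (k : G)⁻¹).length := by
      simp [hL, Nat.card_eq_fintype_card]
    rw [this, ← palProd_mul hz (hmem x hx)]
    congr 1
    simp only [List.map_map]
    refine List.map_congr_left fun k _ => ?_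
    have := mem_centralizer_iff.1 hzK _ (K.inv_mem k.2)
    simp only [Function.comp]
    calc (k : G) * (x * z) * (k : G)⁻¹ = k * x * (z * (k : G)⁻¹) := by group
      _ = _ := by rw [← this]; group

end Pal

variable {G : Type u} [Group G] [Finite G] {p q : ℕ} {A D E H K P S T : Subgroup G}

/-- Bender's lemma for groups of class two (the Baer trick). -/
theorem bender_class_two (hp : p.Prime) (hp2 : p ≠ 2) (hD : IsPGroup p D) (h2 : ⁅D, D⁆ ≤ C[D])
    (hA : IsPGroup p A) (hK : IsPiSubgroup {p}ᶜ K) (hAD : A ≤ N[D]) (hKD : K ≤ N[D])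
    (hAK : A ≤ N[K]) (h : D ⊓ C[A] ≤ C[K]) : K ≤ C[D] := by
  haveI := Fact.mk hp
  induction hk : Nat.card D using Nat.strong_induction_on generalizing D with | _ n ih =>
  have hc : (Nat.card D).Coprime (Nat.card K) := (isPi_of_isPGroup hp hD).coprime hK
  have IH : ∀ X, X < D → A ≤ N[X] → K ≤ N[X] → K ≤ C[X] := fun X hX h1 h2' =>
    ih _ (hk ▸ card_lt_of_lt hX) (hD.to_le hX.le)
      (((commutator_mono hX.le hX.le).trans h2).trans (cent_anti hX.le)) h1 h2'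
      ((inf_le_inf_right _ hX.le).trans h) rfl
  by_cases hD1 : D = ⊥
  · subst hD1; simp
  rcases (commutator_le_of_le_norm_left hKD).lt_or_eq with hlt | heq
  · have := IH _ hlt (le_norm_commutator hAD hAK) (le_norm_commutator hKD le_normalizer)
    exact le_cent_symm (coprime_le_cent_of_commutator_le_cent hKD hc (le_cent_symm this))
  exfalso
  have hlt : ⁅D, D⁆ < D := commutator_lt_of_solvable (solvable_of_isPGroup hp hD) hD1
  have hDK : ⁅D, D⁆ ≤ C[K] :=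
    le_cent_symm (IH _ hlt (le_norm_commutator hAD hAD) (le_norm_commutator hKD hKD))
  have hfix : D ⊓ C[K] ≤ ⁅D, D⁆ := by
    have := coprime_commutator_inf_cent_le hKD hc
    rwa [heq] at this
  have hnil : Group.IsNilpotent ↥(D ⊔ A) :=
    nilpotent_of_isPGroup hp (IsPGroup.to_sup_of_normal_left' hD hA hAD)
  obtain ⟨x, hx, hx', hxA⟩ := PG.exists_not_mem_centMod_of_nilpotent hnil le_sup_left
    (sup_le le_normalizer hAD) hlt.not_ge
  obtain ⟨σ, hσ, hσg, hσk, hσz⟩ := exists_palindrome h2 hKD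
  have hm : ∀ w ∈ D, (orderOf w).Coprime (2 * Nat.card K) := fun w hw =>
    PG.coprime_orderOf_of_mem hD hw (Nat.Coprime.mul_right
      ((Nat.coprime_primes hp Nat.prime_two).2 hp2)
      ((isPiSubgroup_single_compl_iff_coprime hp).1 hK).symm)
  have h1 : σ x ∈ ⁅D, D⁆ := hfix ⟨hσ x hx, mem_centralizer_iff.2 fun k hk => by
    have := hσg x hx k (hKD hk) (le_normalizer hk)
    rw [hσk x hx k hk] at this
    exact mul_inv_eq_iff_eq_mul.1 this⟩
  obtain ⟨m, hm'⟩ := exists_pow_eq_self_of_coprime (x := (σ x)⁻¹)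
    (n := 2 * Nat.card K) (by rw [orderOf_inv]; exact (hm _ (hσ x hx)).symm)
  set z := (σ x)⁻¹ ^ m with hz
  have hzD : z ∈ ⁅D, D⁆ := pow_mem (inv_mem h1) _
  have hy : σ (x * z) = 1 := by
    rw [hσz x hx z (h2 hzD) (hDK hzD), hz, ← pow_mul, mul_comm m, pow_mul, hm', mul_inv_cancel]
  have hyD : x * z ∈ D := mul_mem hx (hlt.le hzD)
  have : x * z ∈ ⁅D, D⁆ := by
    refine hfix ⟨hyD, h ⟨hyD, mem_centralizer_iff.2 fun a ha => ?_⟩⟩
    have hw : (x * z)⁻¹ * (a * (x * z) * a⁻¹) ∈ ⁅D, D⁆ := by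
      have e : (x * z)⁻¹ * (a * (x * z) * a⁻¹) =
          z⁻¹ * (x⁻¹ * ⁅x, a⁆⁻¹ * x⁻¹⁻¹) * (a * z * a⁻¹) := by
        rw [commutatorElement_def]; group
      rw [e]
      exact mul_mem (mul_mem (inv_mem hzD) (conj_mem_of_le_norm (self_le_norm_der1 D) (inv_mem hx)
        (inv_mem (hxA a (mem_sup_right ha)))))
        (conj_mem_of_le_norm (le_norm_commutator hAD hAD) ha hzD)
    have e1 := hσg _ hyD a (hAD ha) (hAK ha)
    have e2 := hσz _ hyD _ (h2 hw) (hDK hw)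
    rw [mul_inv_cancel_left, ← e1, hy, mul_one, mul_inv_cancel, one_mul] at e2
    have e3 := (hm _ (hlt.le hw)).eq_one_of_dvd (orderOf_dvd_of_pow_eq_one e2.symm)
    rw [orderOf_eq_one_iff, inv_mul_eq_one] at e3
    exact mul_inv_eq_iff_eq_mul.1 e3.symm
  exact hx' (by simpa using mul_mem this (inv_mem hzD))

/-- Thompson–Bender, the action lemma for odd `p`. -/
theorem bender_odd (hp : p.Prime) (hp2 : p ≠ 2) (hP : IsPGroup p P) (hA : IsPGroup p A)
    (hK : IsPiSubgroup {p}ᶜ K) (hAP : A ≤ N[P]) (hKP : K ≤ N[P]) (hAK : A ≤ N[K])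
    (h : ∀ x ∈ P ⊓ C[A], x ^ p = 1 → x ∈ C[K]) : K ≤ C[P] := by
  haveI := Fact.mk hp
  obtain ⟨D, hDP, hn, h2, he, -, hD⟩ := PG.exists_critical_odd hp2 hP
  exact hD K hKP ((isPiSubgroup_single_compl_iff_coprime hp).1 hK)
    (bender_class_two hp hp2 (hP.to_le hDP)
      (((commutator_mono le_rfl hDP).trans h2).trans inf_le_right) hA hK (hAP.trans hn)
      (hKP.trans hn) hAK fun x hx => h x ⟨hDP hx.1, hx.2⟩ (he x hx.1))

/-- Thompson–Bender, the action lemma for quadratic action. -/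
theorem bender_quadratic (hp : p.Prime) (hP : IsPGroup p P) (hA : IsPGroup p A)
    (hK : IsPiSubgroup {p}ᶜ K) (hAP : A ≤ N[P]) (hKP : K ≤ N[P]) (hAK : A ≤ N[K])
    (hq : ⁅P, A⁆ ≤ C[A]) (h : P ⊓ C[A] ≤ C[K]) : K ≤ C[P] := by
  have h0 : ⁅P, A⁆ ≤ C[K] := (le_inf (commutator_le_of_le_norm_left hAP) hq).trans h
  have hAK' : ⁅A, K⁆ ≤ K := commutator_le_of_le_norm_right hAK
  have h1 : ⁅⁅A, K⁆, P⁆ ≤ ⁅P, A⁆ := by
    refine three_subgroups (H := K) (K := P) (L := A) (le_norm_of_cent (le_cent_symm h0))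
      (normalizer_commutator_ge_left _ _) (normalizer_commutator_ge_right _ _)
      (commutator_mono (commutator_le_of_le_norm_right hKP) le_rfl) ?_
    rw [le_cent_iff_commutator_eq_bot.1 h0]; exact bot_le
  have h2 : P ≤ C[⁅A, K⁆] := by
    refine coprime_le_cent_of_commutator_le_cent (hAK'.trans hKP)
      ((isPi_of_isPGroup hp hP).coprime (hK.of_le hAK')) ?_
    rw [commutator_comm P]
    exact (h1.trans h0).trans (cent_anti hAK')
  have h3 : K ⊓ C[A] ≤ C[P] :=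
    thompson_AxB_pgroup hp hP hA hK.inf_left (inf_le_left.trans hKP) hAP inf_le_right
      (h.trans (cent_anti inf_le_left))
  rw [← coprime_commutator_sup_cent (Or.inr (solvable_of_isPGroup hp hA)) hAK
    (hK.coprime' (isPi_of_isPGroup hp hA)), commutator_comm K]
  exact sup_le (le_cent_symm h2) h3

/-- `H` is `p`-constrained (relative form) -/
def PConstr (p : ℕ) (H : Subgroup G) : Prop :=
  ∀ T : Subgroup G, IsPiHallOf {p} T (piCore2Of {p}ᶜ {p} H) → H ⊓ C[T] ≤ piCore2Of {p}ᶜ {p} H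

theorem pConstr_of_solvable (hs : Group.IsSolvable H) : PConstr p H :=
  fun _ hT => inf_cent_le_piCore2Of hs hT

theorem pConstr_iff (hp : p.Prime) : PConstr p H ↔ IsPConstrained p H := by
  have e := map_subtype_pPrimePCore hp H
  constructor
  · intro h P
    have h1 := (isPiHallOf_map_iff H.subtype_injective).2 (syl_of_sylow hp P)
    rw [e] at h1
    have h2 := h _ h1
    rw [← e] at h2
    refine (map_le_map_inj H.subtype_injective).1 (le_trans ?_ h2)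
    exact le_inf (map_subtype_le _) (fun x ⟨y, hy, e⟩ => e ▸
      (map_mem_cent_map_iff H.subtype_injective).2 hy)
  · intro h T hT
    obtain ⟨T', rfl⟩ := exists_map_subtype_eq (hT.le.trans (piCore2Of_le _ _ H))
    rw [← e] at hT ⊢
    obtain ⟨P, rfl⟩ := exists_sylow_of_syl hp ((isPiHallOf_map_iff H.subtype_injective).1 hT)
    intro x hx
    exact ⟨⟨x, hx.1⟩, h P ((map_mem_cent_map_iff H.subtype_injective).1 hx.2), rfl⟩

theorem thompson_bender_aux (hp : p.Prime) (hH : PConstr p H) (hA : IsPGroup p A) (hAH : A ≤ H)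
    (hK : IsPiSubgroup {p}ᶜ K) (hKH : K ≤ H) (hAK : A ≤ N[K])
    (h : (p ≠ 2 ∧ ∀ x ∈ H ⊓ C[A], x ^ p = 1 → x ∈ A) ∨
      ((∀ S : Subgroup G, IsPGroup p S → S ≤ H → ⁅S, S⁆ ≤ C[S]) ∧
        ∀ x ∈ H ⊓ C[A], PiNat {p} (orderOf x) → x ∈ A)) : K ≤ piCoreOf {p}ᶜ H := by
  obtain ⟨Q, _, _, f, -, hk⟩ := exists_quo' H (piCoreOf {p}ᶜ H) (piCoreOf_le _ _)
    (self_le_norm_piCoreOf _ _)
  obtain ⟨S, hS, hAS⟩ := exists_syl_ge hp hA hAH
  have hT := hall_inf_piCore2Of hS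
  set T := S ⊓ piCore2Of {p}ᶜ {p} H with hTdef
  have hTH : T ≤ H := inf_le_left.trans hS.le
  have hTp : IsPGroup p T := syl_isPGroup hp hT
  have hkp : IsPiSubgroup {p}ᶜ (kr f) := hk ▸ piCoreOf_isPi _ _
  have hkH : kr f ≤ H := kr_le
  have himT : im f T = piCoreOf {p} (im f H) := by
    rw [← im_piCore2Of_of_kr_eq le_rfl hk, ← piCoreOf_sup_eq_piCore2Of hT, ← hk, im_kr_sup hTH]
  have hcent : ∀ X, X ≤ H → IsPGroup p X → im f H ⊓ C[im f X] = im f (H ⊓ C[X]) :=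
    fun X hX hXp => (im_inf_cent_of_coprime_kr le_rfl hX hkH
      (Or.inr (solvable_of_isPGroup hp hXp)) (hkp.coprime' (isPi_of_isPGroup hp hXp))).symm
  have hPH : im f T ≤ im f H := im_mono hTH
  have hn : im f H ≤ N[im f T] := himT ▸ self_le_norm_piCoreOf _ _
  have hlift : ∀ y ∈ im f T ⊓ C[im f A], ∃ x, ∃ hx : x ∈ H, x ∈ C[A] ∧ PiNat {p} (orderOf x) ∧
      f ⟨x, hx⟩ = y := by
    intro y hy
    have : y ∈ im f (H ⊓ C[A]) := hcent A hAH hA ▸ ⟨hPH hy.1, hy.2⟩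
    obtain ⟨x, hx, hx', e⟩ := mem_im.1 this
    refine ⟨(constt {p} (⟨x, hx⟩ : H) : H), (constt {p} (⟨x, hx⟩ : H)).2, ?_, ?_, ?_⟩
    · have := constt_map H.subtype {p} ⟨x, hx⟩
      simp only [coe_subtype] at this
      rw [← this]; exact constt_mem _ hx'.2
    · rw [Subgroup.orderOf_coe]; exact piNat_constt _ _
    · rw [← constt_map, e]
      exact constt_of_piNat ((isPi_of_isPGroup hp (isPGroup_im hTp)).orderOf hy.1)
  have hAK' : ∀ y ∈ im f T, y ∈ im f A → y ∈ C[im f K] := by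
    intro y hy hyA
    have h1 : ⁅im f T ⊓ im f A, im f K⁆ ≤ im f T ⊓ im f K :=
      le_inf ((commutator_mono inf_le_left le_rfl).trans
          (commutator_le_of_le_norm_left ((im_mono hKH).trans hn)))
        ((commutator_mono inf_le_right le_rfl).trans (commutator_le_of_le_norm_right (im_norm hAK)))
    rw [(isPi_of_isPGroup hp (isPGroup_im hTp)).inf_eq_bot hK.im, le_bot_iff] at h1
    exact le_cent_iff_commutator_eq_bot.2 h1 ⟨hy, hyA⟩
  have hKc : im f K ≤ C[im f T] := by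
    rcases h with ⟨hp2, h⟩ | ⟨h2, h⟩
    · refine bender_odd hp hp2 (isPGroup_im hTp) (isPGroup_im hA) hK.im ((im_mono hAH).trans hn)
        ((im_mono hKH).trans hn) (im_norm hAK) fun y hy hyp => hAK' y hy.1 ?_
      obtain ⟨x, hx, hxA, hxp, rfl⟩ := hlift y hy
      refine mem_im_of_mem hx (h x ⟨hx, hxA⟩ (eq_one_of_piNat_orderOf
        (hxp.of_dvd (orderOf_pow_dvd p)) (hkp.orderOf ?_)))
      rw [mem_kr' (pow_mem hx p), ← hyp, ← map_pow]; rfl
    · refine bender_quadratic hp (isPGroup_im hTp) (isPGroup_im hA) hK.im ((im_mono hAH).trans hn)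
        ((im_mono hKH).trans hn) (im_norm hAK) ?_ fun y hy => hAK' y hy.1 ?_
      · rw [← im_commutator hTH hAH]
        exact im_cent (((commutator_mono inf_le_left hAS).trans
          (h2 S (syl_isPGroup hp hS) hS.le)).trans (cent_anti hAS))
      · obtain ⟨x, hx, hxA, hxp, rfl⟩ := hlift y hy
        exact mem_im_of_mem hx (h x ⟨hx, hxA⟩ hxp)
  have h1 : im f K ≤ im f T := by
    refine (le_inf (im_mono hKH) hKc).trans ?_
    rw [hcent T hTH hTp, himT, ← im_piCore2Of_of_kr_eq le_rfl hk]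
    exact im_mono (hH T hT)
  rw [← hk, ← im_eq_bot_iff hKH]
  exact ((isPi_of_isPGroup hp (isPGroup_im hTp)).of_le h1).eq_bot hK.im

/-- The Thompson–Bender theorem, `p` odd. -/
theorem thompson_bender (hp : p.Prime) (hp2 : p ≠ 2) (hH : PConstr p H) (hA : IsPGroup p A)
    (hAH : A ≤ H) (h : ∀ x ∈ H ⊓ C[A], x ^ p = 1 → x ∈ A) (hK : IsPiSubgroup {p}ᶜ K) (hKH : K ≤ H)
    (hAK : A ≤ N[K]) : K ≤ piCoreOf {p}ᶜ H :=
  thompson_bender_aux hp hH hA hAH hK hKH hAK (Or.inl ⟨hp2, h⟩)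

section MaxInv
variable {π : Set ℕ} {Q R : Subgroup G} {g : G}

omit [Finite G] in
theorem mem_norm_top : g ∈ N[(⊤ : Subgroup G)] := by rw [norm_top]; exact mem_top g
omit [Finite G] in
theorem maxInv_le (h : Q ∈ maxInvSubgroups H A π) : Q ≤ H := h.1.1
omit [Finite G] in
theorem maxInv_isPi (h : Q ∈ maxInvSubgroups H A π) : IsPiSubgroup π Q := h.1.2.1
omit [Finite G] in
theorem maxInv_norm (h : Q ∈ maxInvSubgroups H A π) : A ≤ N[Q] := h.1.2.2
omit [Finite G] in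
theorem maxInv_eq (h : Q ∈ maxInvSubgroups H A π) (h1 : R ≤ H) (h2 : IsPiSubgroup π R)
    (h3 : A ≤ N[R]) (hQ : Q ≤ R) : R = Q := h.2 R ⟨h1, h2, h3⟩ hQ
omit [Finite G] in
theorem maxInv_eq_of_le (h : Q ∈ maxInvSubgroups H A π) (h' : R ∈ maxInvSubgroups H A π)
    (hQ : Q ≤ R) : R = Q := h.2 R h'.1 hQ
omit [Finite G] in
theorem maxInv_mk (h1 : Q ≤ H) (h2 : IsPiSubgroup π Q) (h3 : A ≤ N[Q])
    (h : ∀ R, R ≤ H → IsPiSubgroup π R → A ≤ N[R] → Q ≤ R → R = Q) : Q ∈ maxInvSubgroups H A π :=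
  ⟨⟨h1, h2, h3⟩, fun R hR => h R hR.1 hR.2.1 hR.2.2⟩

omit [Finite G] in
theorem maxInv_conj (h : Q ∈ maxInvSubgroups H A π) (hH : g ∈ N[H]) (hA : g ∈ N[A]) :
    cj[g] Q ∈ maxInvSubgroups H A π := by
  refine maxInv_mk (conj_eq_self hH ▸ conj_mono g (maxInv_le h))
    (isPiSubgroup_cj.2 (maxInv_isPi h))
    (conj_eq_self hA ▸ conj_le_norm_conj_iff.2 (maxInv_norm h)) fun R h1 h2 h3 hQ => ?_
  rw [← maxInv_eq h (R := cj[g⁻¹] R) (conj_eq_self (inv_mem hH) ▸ conj_mono _ h1)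
    (isPiSubgroup_cj.2 h2) (conj_eq_self (inv_mem hA) ▸ conj_le_norm_conj_iff.2 h3)
    (conj_le_iff.1 hQ), conj_inv_conj]

theorem exists_maxInv (h1 : Q ≤ H) (h2 : IsPiSubgroup π Q) (h3 : A ≤ N[Q]) :
    ∃ R ∈ maxInvSubgroups H A π, Q ≤ R := by
  obtain ⟨R, hR, hQR, hm⟩ := exists_maximal_ge (S := invSubgroups H A π) (H := Q) ⟨h1, h2, h3⟩
  exact ⟨R, ⟨hR, hm⟩, hQR⟩

end MaxInv

theorem transitivity_aux (hp : p.Prime) (hq : q.Prime) (hqp : q ≠ p) (hE : IsPGroup p E)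
    (hEc : IsMulCommutative E) (hE3 : ¬ PRankLE p 2 E) (hKE : K ≤ C[E])
    (hK : ∀ c ∈ C[E], PiNat {p}ᶜ (orderOf c) → c ∈ K)
    (hloc : ∀ u ∈ E, u ≠ 1 → ∃ L : Subgroup G, IsPiSubgroup {p}ᶜ L ∧ E ≤ N[L] ∧
        ∀ Y : Subgroup G, IsPGroup q Y → Y ≤ C1[u] → E ≤ N[Y] → Y ≤ L)
    {Q₁ Q₂ : Subgroup G} (h₁ : Q₁ ∈ maxInvSubgroups ⊤ E {q}) (h₂ : Q₂ ∈ maxInvSubgroups ⊤ E {q}) :
    ∃ k ∈ K, Q₂ = cj[k] Q₁ := by
  haveI := Fact.mk hp
  induction hk : Nat.card G - Nat.card ↥(Q₁ ⊓ Q₂) using Nat.strong_induction_on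
    generalizing Q₁ Q₂ with | _ n ih =>
  by_cases h12 : Q₁ ≤ Q₂
  · exact ⟨1, one_mem _, by rw [one_conj, maxInv_eq_of_le h₁ h₂ h12]⟩
  by_cases h21 : Q₂ ≤ Q₁
  · exact ⟨1, one_mem _, by rw [one_conj, maxInv_eq_of_le h₂ h₁ h21]⟩
  set D := Q₁ ⊓ Q₂ with hD
  have IH : ∀ R₁ ∈ maxInvSubgroups ⊤ E {q}, ∀ R₂ ∈ maxInvSubgroups ⊤ E {q}, ∀ Y, ¬ Y ≤ D →
      D ⊔ Y ≤ R₁ → D ⊔ Y ≤ R₂ → ∃ k ∈ K, R₂ = cj[k] R₁ := fun R₁ h1 R₂ h2 Y hY a b => by
    refine ih _ ?_ h1 h2 rfl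
    have := card_lt_of_lt ((left_lt_sup.2 hY).trans_le (le_inf a b))
    have := card_le_card_group (R₁ ⊓ R₂)
    omega
  have hq₁ := (maxInv_isPi h₁).isPGroup hq
  have hq₂ := (maxInv_isPi h₂).isPGroup hq
  have hDE : E ≤ N[D] := le_norm_inf (maxInv_norm h₁) (maxInv_norm h₂)
  have hN₁ := lt_inf_norm_of_isPGroup hq hq₁ (inf_lt_left.2 h12)
  have hN₂ := lt_inf_norm_of_isPGroup hq hq₂ (inf_lt_right.2 h21)
  have hn₁ : E ≤ N[Q₁ ⊓ N[D]] := le_norm_inf (maxInv_norm h₁) (le_norm_norm hDE)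
  have hn₂ : E ≤ N[Q₂ ⊓ N[D]] := le_norm_inf (maxInv_norm h₂) (le_norm_norm hDE)
  have hcop : ∀ X Y : Subgroup G, IsPGroup q X → Y ≤ E → (Nat.card X).Coprime (Nat.card Y) :=
    fun X Y hX hY => (isPi_of_isPGroup_mem (π := {p}ᶜ) hq hX hqp).coprime'
      (isPi_of_isPGroup hp (hE.to_le hY))
  obtain ⟨B, hBE, hBe, hBc⟩ := PG.not_pRankLE_iff.1 hE3
  obtain ⟨B₁, hB₁, hB₁'⟩ : ∃ B₁, PnElem p 2 B B₁ ∧ ¬ Q₁ ⊓ N[D] ⊓ C[B₁] ≤ D := by
    by_contra hc
    push Not at hc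
    exact hN₁.not_ge (coprime_pnElem_gen_cent (K := E) hp ⟨hBE, hBe, hBc⟩ (hBE.trans hn₁)
      (hcop _ _ (hq₁.to_le inf_le_left) hBE) hc)
  have hB₁E := hB₁.le.trans hBE
  obtain ⟨u, hu, hu1, hu₂⟩ := coprime_abelian_exists_cent1 hB₁.comm
    (PG.not_isCyclic_of_elemAb_sq hp hB₁.elem hB₁.card) (hB₁E.trans hn₂)
    (hcop _ _ (hq₂.to_le inf_le_left) hB₁E) hN₂.not_ge
  have hu₁ : ¬ Q₁ ⊓ N[D] ⊓ C1[u] ≤ D := fun h =>
    hB₁' ((inf_le_inf_left _ (cent_le_cent1 hu)).trans h)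
  obtain ⟨L, hL, hEL, hLq⟩ := hloc u (hB₁E hu) hu1
  have hEu : E ≤ N[C1[u]] :=
    le_norm_cent1 ((comm_iff_le_cent.1 hEc).trans (cent_le_cent1 (hB₁E hu)))
  have hY : ∀ Q : Subgroup G, IsPGroup q Q → E ≤ N[Q ⊓ N[D]] → Q ⊓ N[D] ⊓ C1[u] ≤ L ⊓ N[D] :=
    fun Q hQ hn => le_inf (hLq _ (hQ.to_le (inf_le_left.trans inf_le_left)) inf_le_right
      (le_norm_inf hn hEu)) (inf_le_left.trans inf_le_right)
  have hs : Group.IsSolvable ↥(L ⊓ N[D]) ∨ Group.IsSolvable E := Or.inr (solvable_of_isPGroup hp hE)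
  have hL₁ : E ≤ N[L ⊓ N[D]] := le_norm_inf hEL (le_norm_norm hDE)
  have hc₁ : (Nat.card ↥(L ⊓ N[D])).Coprime (Nat.card E) :=
    hL.inf_left.coprime' (isPi_of_isPGroup hp hE)
  obtain ⟨S, hS, hES, hYS⟩ := coprime_exists_syl_ge hq hs hL₁ hc₁ (hY _ hq₁ hn₁)
    (hq₁.to_le (inf_le_left.trans inf_le_left)) (le_norm_inf hn₁ hEu)
  obtain ⟨c, hc, hYc⟩ := coprime_syl_le_conj hq hs hL₁ hc₁ hS hES (hY _ hq₂ hn₂)
    (hq₂.to_le (inf_le_left.trans inf_le_left)) (le_norm_inf hn₂ hEu)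
  obtain ⟨Q₃, h₃, hQ₃⟩ := exists_maxInv (H := ⊤) (π := {q}) (Q := D ⊔ S) le_top
    ((isPi_of_isPGroup hq (hq₁.to_le inf_le_left)).sup hS.isPi
      (Or.inr (hS.le.trans inf_le_right))) (le_norm_sup hDE hES)
  obtain ⟨k₁, hk₁, e₁⟩ := IH Q₁ h₁ Q₃ h₃ _ hu₁
    (sup_le inf_le_left (inf_le_left.trans inf_le_left)) ((sup_le_sup_left hYS _).trans hQ₃)
  obtain ⟨k₂, hk₂, e₂⟩ := IH (cj[c] Q₃) (maxInv_conj h₃ mem_norm_top (cent_le_norm _ hc.2)) Q₂ h₂ _ hu₂
    (sup_le (conj_eq_self hc.1.2 ▸ conj_mono c (le_sup_left.trans hQ₃))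
      (hYc.trans (conj_mono c (le_sup_right.trans hQ₃))))
    (sup_le inf_le_right (inf_le_left.trans inf_le_left))
  exact ⟨k₂ * c * k₁, mul_mem (mul_mem hk₂ (hK c hc.2 (hL.orderOf hc.1.1))) hk₁, by
    rw [mul_conj, mul_conj, ← e₁, ← e₂]⟩

/-- if `E` is abelian and contains every `p`-element of its centralizer then
`O_{p'}(C(E))` is a Hall subgroup of `C(E)`. -/
theorem hall_piCoreOf_cent_of_forall_mem (hp : p.Prime) (hE : IsPGroup p E) (hEH : E ≤ H)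
    (hEc : IsMulCommutative E) (h : ∀ x ∈ H ⊓ C[E], PiNat {p} (orderOf x) → x ∈ E) :
    IsPiHallOf {p}ᶜ (piCoreOf {p}ᶜ (H ⊓ C[E])) (H ⊓ C[E]) := by
  have hle : E ≤ H ⊓ C[E] := le_inf hEH (comm_iff_le_cent.1 hEc)
  exact Burnside_hall hp (syl_of_maximal hp hE hle fun Q hQ h1 h2 => le_antisymm
    (fun x hx => h x (h2 hx) ((isPi_of_isPGroup hp hQ).orderOf hx)) h1)
    (inf_le_left.trans inf_le_right)

/-- Thompson's transitivity theorem. -/
theorem thompson_transitivity (hp : p.Prime) (hq : q.Prime) (hqp : q ≠ p)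
    (hloc : ∀ T : Subgroup G, IsPGroup p T → T ≠ ⊥ → PConstr p N[T])
    (h2 : p = 2 → ∀ S : Subgroup G, IsPGroup p S → ⁅S, S⁆ ≤ C[S]) (hE : IsPGroup p E)
    (hEc : IsMulCommutative E) (hE3 : ¬ PRankLE p 2 E)
    (hf : ∀ x ∈ C[E], PiNat {p} (orderOf x) → x ∈ E)
    {Q₁ Q₂ : Subgroup G} (h₁ : Q₁ ∈ maxInvSubgroups ⊤ E {q}) (h₂ : Q₂ ∈ maxInvSubgroups ⊤ E {q}) :
    ∃ k ∈ piCoreOf {p}ᶜ C[E], Q₂ = cj[k] Q₁ := by
  have hH := hall_piCoreOf_cent_of_forall_mem hp hE le_top hEc fun x hx => hf x hx.2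
  rw [top_inf_eq] at hH
  refine transitivity_aux hp hq hqp hE hEc hE3 (piCoreOf_le _ _)
    (fun c hc hc' => hH.mem_of_normal (self_le_norm_piCoreOf _ _) hc hc') (fun u hu hu1 => ?_) h₁ h₂
  have hC : C1[u] ≤ N[zpowers u] := cent_zpowers u ▸ cent_le_norm _
  have hEN : E ≤ N[zpowers u] := ((comm_iff_le_cent.1 hEc).trans (cent_le_cent1 hu)).trans hC
  refine ⟨piCoreOf {p}ᶜ N[zpowers u], piCoreOf_isPi _ _, le_norm_piCoreOf (le_norm_self hEN),
    fun Y hY hYu hEY => thompson_bender_aux hp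
      (hloc _ (hE.to_le (zpowers_le.2 hu)) (zpowers_ne_bot.2 hu1)) hE hEN
      (isPi_of_isPGroup_mem hq hY hqp) (hYu.trans hC) hEY ?_⟩
  by_cases hp2 : p = 2
  · exact Or.inr ⟨fun S hS _ => h2 hp2 S hS, fun x hx => hf x hx.2⟩
  · exact Or.inl ⟨hp2, fun x hx hxp => hf x hx.2
      ((piNat_single_self hp).of_dvd (orderOf_dvd_of_pow_eq_one hxp))⟩

end Cfsg.Agent.GT
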