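import Cfsg.Agent.GT.PLength
import Cfsg.Agent.PG.Critical

/-! BG 1.11, 1.12 and 6.7. -/

namespace Cfsg.Agent.GT

open Subgroup

universe u

variable {G : Type u} [Group G] [Finite G] {p : ℕ} {A E H L P : Subgroup G}

/-- BG 1.12. -/
theorem coprime_odd_faithful_cent_abelem (hp : p.Prime) (hp2 : p ≠ 2) (hP : IsPGroup p P)
    (hE : IsElementaryAbelian p E) (hEP : E ≤ P) (hA : A ≤ N[P]) (hc : IsPiSubgroup {p}ᶜ A)
    (h : ∀ x ∈ P ⊓ C[E], x ^ p = 1 → x ∈ C[A]) : A ≤ C[P] := by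
  haveI := Fact.mk hp
  exact PG.le_cent_of_forall_mem_cent_elemAb hp2 hP hE hEP hA
    ((isPiSubgroup_single_compl_iff_coprime hp).1 hc) fun x h1 h2 h3 => h x ⟨h1, h2⟩ h3

/-- The image of a maximal elementary abelian `p`-subgroup modulo a `p'`-kernel. -/
theorem PmaxElem.im {G' : Type*} [Group G'] {D : Subgroup G} {f : D →* G'} (hp : p.Prime)
    (h : PmaxElem p H E) (hH : H ≤ D) (hk : IsPiSubgroup {p}ᶜ (H ⊓ kr f)) :
    PmaxElem p (im f H) (im f E) := by
  refine ⟨im_mono h.le, PG.elemAb_im h.elem, fun B hB hBe hEB => ?_⟩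
  have hE : E ≤ H ⊓ pre f B := le_inf h.le ((im_le_iff (h.le.trans hH)).1 hEB)
  obtain ⟨S, hS, hES⟩ := exists_syl_ge hp (PG.elemAb_isPGroup h.elem) hE
  have hSH : S ≤ H := hS.le.trans inf_le_left
  have h1 := hS.im (f := f) (inf_le_left.trans hH)
  rw [im_inf_pre, inf_eq_right.2 hB] at h1
  have h2 : GT.im f S = B := by
    haveI : Finite (GT.im f H) := Finite.of_surjective _ (imHom_surjective (f := f) hH)
    haveI : Finite B := Finite.of_injective _ (inclusion_injective hB)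
    refine h1.eq_self ?_
    rw [isPiSubgroup_iff, piNat_card_iff_isPGroup hp]
    exact PG.elemAb_isPGroup hBe
  have h3 : S ⊓ kr f = ⊥ := (hS.isPi.inf_left).eq_bot (hk.of_le (inf_le_inf_right _ hSH))
  have h4 : IsElementaryAbelian p S := by
    rw [← h2] at hBe
    refine PG.isElemAb_iff.2 ⟨fun x hx y hy => ?_, fun x hx => ?_⟩
    · have := imHom_injective (f := f) (hSH.trans hH) h3 (a₁ := ⟨x, hx⟩ * ⟨y, hy⟩)
        (a₂ := ⟨y, hy⟩ * ⟨x, hx⟩) (by
          rw [map_mul, map_mul]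
          exact Subtype.ext (PG.commute_of_comm (PG.elemAb_comm hBe) (Subtype.prop _)
            (Subtype.prop _)))
      exact congrArg Subtype.val this
    · have := imHom_injective (f := f) (hSH.trans hH) h3 (a₁ := ⟨x, hx⟩ ^ p) (a₂ := 1) (by
          rw [map_pow, map_one]
          exact Subtype.ext (PG.elemAb_pow hBe (Subtype.prop _)))
      exact congrArg Subtype.val this
  rw [← h2, h.eq hSH h4 hES]

/-- BG 6.7. -/
theorem plength1_norm_pmaxElem (hp : p.Prime) (hp2 : p ≠ 2) (hE : PmaxElem p H E)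
    (hs : Group.IsSolvable H) (h : PLengthLE p 1 H) (hL : L ≤ H) (hn : E ≤ N[L])
    (hLp : IsPiSubgroup {p}ᶜ L) : L ≤ piCoreOf {p}ᶜ H := by
  obtain ⟨Q, _, _, f, -, hk⟩ := exists_quo' H (piCoreOf {p}ᶜ H) (piCoreOf_le _ _)
    (self_le_norm_piCoreOf _ _)
  have h0 := piCoreOf_im_eq_bot le_rfl hk
  have hE' := hE.im hp (f := f) le_rfl (by rw [hk]; exact (piCoreOf_isPi _ _).inf_right)
  have hS := (plength1_pcore_quo_Sylow hp le_rfl hk).1 h
  have hES : im f E ≤ piCoreOf {p} (im f H) :=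
    hS.le_of_normal (self_le_norm_piCoreOf _ _) hE'.le
      (isPi_of_isPGroup hp (PG.elemAb_isPGroup hE'.elem))
  have hLS : im f L ≤ N[piCoreOf {p} (im f H)] := (im_mono hL).trans (self_le_norm_piCoreOf _ _)
  have h1 : im f L ≤ C[im f E] := by
    rw [le_cent_iff_commutator_eq_bot, eq_bot_iff,
      ← hLp.im.inf_eq_bot' (piCoreOf_isPi {p} (im f H))]
    exact le_inf (commutator_le_of_le_norm_left (im_norm hn))
      ((commutator_mono le_rfl hES).trans (commutator_le_of_le_norm_right hLS))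
  have h2 : im f L ≤ C[piCoreOf {p} (im f H)] :=
    coprime_odd_faithful_cent_abelem hp hp2 (piCoreOf_isPGroup hp _) hE'.elem hES hLS hLp.im
      fun x hx hxp => le_cent_symm h1 (PG.mem_of_maximal_elemAb hE'.elem hE'.le hE'.2.2
        (piCoreOf_le _ _ hx.1) hx.2 hxp)
  have h3 := (le_inf (im_mono hL) h2).trans (inf_cent_piCoreOf_le (solvable_im hs) h0)
  rw [← hk, ← im_eq_bot_iff hL]
  exact ((piCoreOf_isPi _ _).of_le h3).eq_bot hLp.im

end Cfsg.Agent.GT
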