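import Cfsg.Agent.GT.Puig
import Cfsg.Agent.Cl.Dickson

/-! `p`-stability of solvable groups for `p ≥ 5` and normality of the centre of the Puig
subgroup (adapted from the odd order versions in `GT/PStable`, `GT/Puig`). -/

namespace Cfsg.Agent.GT

open Subgroup
open scoped commutatorElement MatrixGroups

universe u

variable {G : Type u} [Group G] [Finite G] {p : ℕ} {A E H P S X : Subgroup G}

theorem not_solvable_SL2_zmod [hp : Fact p.Prime] (h5 : 5 ≤ p) :
    ¬ Group.IsSolvable SL(2, ZMod p) := by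
  have h2 : (2 : ZMod p) ≠ 0 := by
    intro h
    have : ((2 : ℕ) : ZMod p) = 0 := by exact_mod_cast h
    rw [ZMod.natCast_eq_zero_iff] at this
    have := Nat.le_of_dvd (by norm_num) this
    omega
  have h3 : (2 : ZMod p) ^ 2 ≠ 1 := by
    intro h
    have : ((3 : ℕ) : ZMod p) = 0 := by
      push_cast
      linear_combination h
    rw [ZMod.natCast_eq_zero_iff] at this
    have := Nat.le_of_dvd (by norm_num) this
    omega
  haveI : Group.IsPerfect SL(2, ZMod p) := ⟨Matrix.SL2.commutator_eq_top h2 h3⟩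
  haveI : Nontrivial SL(2, ZMod p) := ⟨⟨Cl.tU 1, 1, fun h => by
    have := congrArg (fun m : SL(2, ZMod p) => m.1 0 1) h
    simp [Cl.tU, Cl.sl2mk] at this⟩⟩
  exact Group.IsPerfect.not_isSolvable _

theorem sol5_SL2_transvections {K : Type*} [Field K] [Finite K] [hp : Fact p.Prime] [CharP K p]
    (h5 : 5 ≤ p) {T : Subgroup SL(2, K)} (hT : Group.IsSolvable T) {k : K} (hX : Cl.tU k ∈ T)
    (hY : Cl.tL 1 ∈ T) : k = 0 := by
  classical
  by_contra hk
  have hp2 : p ≠ 2 := by omega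
  by_cases h1 : 1 < Nat.card (Sylow p T)
  · obtain ⟨φ, hφ, hr⟩ := Cl.dickson_sl2 p hp2 T h1
    exact not_solvable_SL2_zmod h5 (Group.isSolvable_of_isSolvable_injective
      (f := φ.codRestrict T fun g => hr ⟨g, rfl⟩) fun a b h => hφ (congrArg Subtype.val h))
  obtain ⟨P⟩ : Nonempty (Sylow p T) := inferInstance
  haveI : Subsingleton (Sylow p T) := Finite.card_le_one_iff_subsingleton.1 (not_lt.1 h1)
  have hmem : ∀ g : T, g ^ p = 1 → g ∈ (P : Subgroup T) := by
    intro g hg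
    obtain ⟨Q, hQ⟩ := (IsPGroup.of_card (n := (if g = 1 then 0 else 1)) (G := zpowers g) (p := p) (by
      rw [Nat.card_zpowers]
      split_ifs with h
      · simp [h]
      · rw [pow_one]; exact orderOf_eq_prime hg h)).exists_le_sylow
    rw [Subsingleton.elim P Q]
    exact hQ (mem_zpowers g)
  have hx := hmem ⟨_, hX⟩ (Subtype.ext (by
    rw [SubmonoidClass.coe_pow]; simp only [Cl.tU_pow, CharP.cast_eq_zero, zero_mul, Cl.tU_zero]
    rfl))
  have hy := hmem ⟨_, hY⟩ (Subtype.ext (by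
    rw [SubmonoidClass.coe_pow]; simp only [Cl.tL_pow, CharP.cast_eq_zero, zero_mul, Cl.tL_zero]
    rfl))
  haveI : Nontrivial (P : Subgroup T) := ⟨⟨⟨_, hy⟩, 1, fun h => by
    have := congrArg (fun m : (P : Subgroup T) => m.1.1.1 1 0) h
    simp [Cl.tL, Cl.sl2mk] at this⟩⟩
  haveI := P.2.center_nontrivial
  obtain ⟨z, hz⟩ := exists_ne (1 : center (P : Subgroup T))
  have c1 := congrArg (fun m : (P : Subgroup T) => m.1.1) (mem_center_iff.1 z.2 ⟨_, hx⟩)
  have c2 := congrArg (fun m : (P : Subgroup T) => m.1.1) (mem_center_iff.1 z.2 ⟨_, hy⟩)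
  simp only [coe_mul] at c1 c2
  set w : SL(2, K) := z.1.1.1 with hw
  have hdet := Cl.sl2_det w
  rw [Cl.sl2_eq_iff] at c1 c2
  simp only [Cl.sl2_mul, Cl.tU, Cl.tL, Cl.sl2mk00, Cl.sl2mk01, Cl.sl2mk10, Cl.sl2mk11] at c1 c2
  have e10 : w.1 1 0 = 0 := by
    have : k * w.1 1 0 = 0 := by linear_combination c1.1
    exact (mul_eq_zero.1 this).resolve_left hk
  have e01 : w.1 0 1 = 0 := by linear_combination -c2.1
  have e00 : w.1 0 0 = w.1 1 1 := by linear_combination c2.2.2.1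
  have hw2 : w * w = 1 := by
    rw [e10, e01, ← e00] at hdet
    refine Cl.sl2_ext ?_ ?_ ?_ ?_ <;>
      simp only [Cl.sl2_mul, e10, e01, ← e00, Cl.sl2_one00, Cl.sl2_one01, Cl.sl2_one10,
        Cl.sl2_one11]
    · linear_combination hdet
    · ring
    · ring
    · linear_combination hdet
  have hz2 : z ^ 2 = 1 := Subtype.ext (Subtype.ext (Subtype.ext (by
    rw [pow_two]; exact hw2)))
  obtain ⟨n, hn⟩ := (P.2.to_subgroup (center _)) z
  have hd := Nat.dvd_gcd (orderOf_dvd_of_pow_eq_one hz2) (orderOf_dvd_of_pow_eq_one hn)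
  rw [((Nat.coprime_primes Nat.prime_two hp.out).2 hp2.symm).pow_right n, Nat.dvd_one,
    orderOf_eq_one_iff] at hd
  exact hz hd

/-- The module-theoretic core of `p`-stability. -/
theorem sol5_quadratic_module {K : Type u} [Field K] [Finite K] [hp : Fact p.Prime] [CharP K p]
    {V : Type*} [AddCommGroup V] (ι : K →+* Module.End ℤ V) {L : Type*} [Group L]
    (ρ : L →* Module.End ℤ V) (h5 : 5 ≤ p) [Group.IsSolvable L] {x y : L}
    (hι : ∀ k g, Commute (ι k) (ρ g)) (hb : (ρ y - 1) * (ρ y - 1) = 0) {k : K}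
    (hk : ι k = (ρ x - 1) * (ρ y - 1) + (ρ y - 1) * (ρ x - 1)) {u : V} (hu : u ≠ 0)
    (hau : (ρ x - 1) u = 0) : k = 0 := by
  by_contra hk0
  set a := ρ x - 1 with ha'
  set b := ρ y - 1 with hb'
  have hinj : ∀ s : K, ∀ v : V, v ≠ 0 → ι s v = 0 → s = 0 := by
    intro s v hv h
    by_contra hs
    apply hv
    have : ι (s⁻¹ * s) v = 0 := by rw [map_mul, Module.End.mul_apply, h, map_zero]
    rwa [inv_mul_cancel₀ hs, map_one] at this
  have hιa : ∀ s v, a (ι s v) = ι s (a v) := fun s v =>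
    DFunLike.congr_fun ((hι s x).sub_right (Commute.one_right _)).eq.symm v
  have hιb : ∀ s v, b (ι s v) = ι s (b v) := fun s v =>
    DFunLike.congr_fun ((hι s y).sub_right (Commute.one_right _)).eq.symm v
  have habu : a (b u) = ι k u := by
    rw [hk, LinearMap.add_apply, Module.End.mul_apply, Module.End.mul_apply, hau, map_zero, add_zero]
  have hbbu : b (b u) = 0 := DFunLike.congr_fun hb u
  have hbu : b u ≠ 0 := fun h => hk0 (hinj k u hu (by rw [← habu, h, map_zero]))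
  let φ : (Fin 2 → K) → V := fun s => ι (s 0) u + ι (s 1) (b u)
  have hφ : Function.Injective φ := by
    intro s t h
    have h1 : ι (s 0 - t 0) u + ι (s 1 - t 1) (b u) = 0 := by
      rw [map_sub, map_sub, LinearMap.sub_apply, LinearMap.sub_apply, sub_add_sub_comm, sub_eq_zero]
      exact h
    have h2 : s 0 - t 0 = 0 := hinj _ _ hbu (by
      have := congrArg b h1
      rwa [map_add, hιb, hιb, hbbu, map_zero, add_zero, map_zero] at this)
    rw [h2, map_zero, LinearMap.zero_apply, zero_add] at h1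
    have h3 := hinj _ _ hbu h1
    ext i
    fin_cases i
    · exact sub_eq_zero.1 h2
    · exact sub_eq_zero.1 h3
  let Γ : Subgroup (L × SL(2, K)) :=
    { carrier := {m | ∀ s, φ (m.2.val.mulVec s) = ρ m.1 (φ s)}
      one_mem' := fun s => by simp
      mul_mem' := by
        rintro ⟨g, m⟩ ⟨g', m'⟩ hg hg' s
        simp only [Set.mem_ofPred_eq] at hg hg'
        rw [Prod.snd_mul, Prod.fst_mul, Matrix.SpecialLinearGroup.coe_mul, ← Matrix.mulVec_mulVec,
          hg, hg', map_mul, Module.End.mul_apply]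
      inv_mem' := by
        rintro ⟨g, m⟩ hg s
        simp only [Set.mem_ofPred_eq] at hg
        have := hg ((m⁻¹).val.mulVec s)
        rw [Matrix.mulVec_mulVec, ← Matrix.SpecialLinearGroup.coe_mul, mul_inv_cancel,
          Matrix.SpecialLinearGroup.coe_one, Matrix.one_mulVec] at this
        rw [Prod.snd_inv, Prod.fst_inv, this, ← Module.End.mul_apply, ← map_mul, inv_mul_cancel,
          map_one, Module.End.one_apply] }
  have hΓ : Group.IsSolvable Γ := by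
    refine Group.isSolvable_of_isSolvable_injective (f := (MonoidHom.fst L SL(2, K)).comp Γ.subtype) ?_
    rw [injective_iff_map_eq_one]
    rintro ⟨⟨g, m⟩, hg⟩ h
    obtain rfl : g = 1 := h
    have : m = 1 := Subtype.ext (Matrix.ext_of_mulVec_single fun i => hφ (by
      have := hg (Pi.single i 1)
      rw [map_one, Module.End.one_apply] at this
      rw [this, Matrix.SpecialLinearGroup.coe_one, Matrix.one_mulVec]))
    subst this
    rfl
  have hT : Group.IsSolvable (Γ.map (MonoidHom.snd L SL(2, K))) :=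
    Group.isSolvable_of_surjective (f := (MonoidHom.snd L SL(2, K)).subgroupMap Γ)
      (MonoidHom.subgroupMap_surjective _ _)
  have hx : ∀ v, ρ x v = v + a v := fun v => by simp [ha']
  have hy : ∀ v, ρ y v = v + b v := fun v => by simp [hb']
  have hXT : (x, Cl.tU k) ∈ Γ := fun s => by
    have e0 : ((Cl.tU k).val.mulVec s) 0 = s 0 + s 1 * k := by
      simp [Cl.tU, Cl.sl2mk, Matrix.mulVec, dotProduct, mul_comm]
    have e1 : ((Cl.tU k).val.mulVec s) 1 = s 1 := by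
      simp [Cl.tU, Cl.sl2mk, Matrix.mulVec, dotProduct]
    simp only [φ, e0, e1, hx, map_add, hιa, hau, habu, map_mul, LinearMap.add_apply,
      Module.End.mul_apply, map_zero]
    abel
  have hYT : (y, Cl.tL (1 : K)) ∈ Γ := fun s => by
    have e0 : ((Cl.tL (1 : K)).val.mulVec s) 0 = s 0 := by
      simp [Cl.tL, Cl.sl2mk, Matrix.mulVec, dotProduct]
    have e1 : ((Cl.tL (1 : K)).val.mulVec s) 1 = s 0 + s 1 := by
      simp [Cl.tL, Cl.sl2mk, Matrix.mulVec, dotProduct]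
    simp only [φ, e0, e1, hy, map_add, hιb, hbbu, LinearMap.add_apply, map_zero]
    abel
  exact hk0 (sol5_SL2_transvections (p := p) h5 hT ⟨_, hXT, rfl⟩ ⟨_, hYT, rfl⟩)

theorem sol5_quadratic_pair_irr (hp : p.Prime) (hE : IsPGroup p E) {x y : G}
    (h : MinNormal E (zpowers x ⊔ zpowers y)) (qx : ⁅E, zpowers x⁆ ≤ C1[x])
    (qy : ⁅E, zpowers y⁆ ≤ C1[y]) (h5 : 5 ≤ p) (ho : Group.IsSolvable ↥(zpowers x ⊔ zpowers y)) :
    E ≤ C[zpowers x ⊔ zpowers y] := by
  haveI := Fact.mk hp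
  have hEe := h.elementary_of_isPGroup hp hE
  haveI := PG.elemAb_comm hEe
  obtain ⟨K, _, _, ι, hι, hr⟩ := h.exists_field
  haveI : CharP K p := (CharP.charP_iff_prime_eq_zero hp).2 (hι (by
    rw [map_natCast, map_zero]
    refine LinearMap.ext fun v => AbV.val_injective ?_
    rw [Module.End.natCast_apply, AbV.val_nsmul, PG.elemAb_pow hEe v.val_mem]
    rfl))
  let ρ : ↥(zpowers x ⊔ zpowers y) →* Module.End ℤ (AbV E) := (conjEnd E).comp (inclusion h.norm)
  have hx : x ∈ zpowers x ⊔ zpowers y := mem_sup_left (mem_zpowers x)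
  have hy : y ∈ zpowers x ⊔ zpowers y := mem_sup_right (mem_zpowers y)
  have hfix : ∀ z (hz : z ∈ zpowers x ⊔ zpowers y) (v : AbV E),
      (ρ ⟨z, hz⟩ - 1) v = 0 ↔ v.val ∈ C1[z] := fun z hz v => by
    rw [LinearMap.sub_apply, sub_eq_zero]
    exact conjEnd_apply_eq_iff E ⟨z, h.norm hz⟩ v
  have hq : ∀ z (hz : z ∈ zpowers x ⊔ zpowers y), ⁅E, zpowers z⁆ ≤ C1[z] →
      (ρ ⟨z, hz⟩ - 1) * (ρ ⟨z, hz⟩ - 1) = 0 := fun z hz hq => LinearMap.ext fun v => by
    refine (hfix z hz _).2 (hq ?_)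
    rw [commutator_comm, LinearMap.sub_apply, AbV.val_sub]
    exact commutator_mem_commutator (mem_zpowers z) v.val_mem
  have ha := hq x hx qx
  have hb := hq y hy qy
  set a := ρ ⟨x, hx⟩ - 1 with ha'
  set b := ρ ⟨y, hy⟩ - 1 with hb'
  have hc : ∀ g (hg : g ∈ zpowers x ⊔ zpowers y), Commute (a * b + b * a) (ρ ⟨g, hg⟩) := by
    have h1 : Commute (a * b + b * a) a := by
      rw [Commute, SemiconjBy, add_mul, mul_add, mul_assoc b, ← mul_assoc a a, ha, mul_zero,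
        zero_mul, add_zero, zero_add, mul_assoc]
    have h2 : Commute (a * b + b * a) b := by
      rw [Commute, SemiconjBy, add_mul, mul_add, mul_assoc a, ← mul_assoc b b, hb, mul_zero,
        zero_mul, add_zero, zero_add, mul_assoc]
    let T : Subgroup G :=
      { carrier := {g | ∃ hg : g ∈ zpowers x ⊔ zpowers y, Commute (a * b + b * a) (ρ ⟨g, hg⟩)}
        one_mem' := ⟨one_mem _, by
          rw [show (⟨1, _⟩ : ↥(zpowers x ⊔ zpowers y)) = 1 from rfl, map_one]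
          exact Commute.one_right _⟩
        mul_mem' := by
          rintro g g' ⟨hg, e⟩ ⟨hg', e'⟩
          refine ⟨mul_mem hg hg', ?_⟩
          rw [show (⟨g * g', _⟩ : ↥(zpowers x ⊔ zpowers y)) = ⟨g, hg⟩ * ⟨g', hg'⟩ from rfl, map_mul]
          exact e.mul_right e'
        inv_mem' := by
          rintro g ⟨hg, e⟩
          refine ⟨inv_mem hg, ?_⟩
          exact Commute.units_inv_right (u := ρ.toHomUnits ⟨g, hg⟩) e }
    have hT : zpowers x ⊔ zpowers y ≤ T := by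
      refine sup_le (zpowers_le.2 ⟨hx, ?_⟩) (zpowers_le.2 ⟨hy, ?_⟩)
      · rw [← sub_add_cancel (ρ ⟨x, hx⟩) 1]; exact h1.add_right (Commute.one_right _)
      · rw [← sub_add_cancel (ρ ⟨y, hy⟩) 1]; exact h2.add_right (Commute.one_right _)
    exact fun g hg => (hT hg).2
  obtain ⟨k, hk⟩ := (hr _).2 hc
  obtain ⟨u, hu, hau⟩ : ∃ u : AbV E, u ≠ 0 ∧ a u = 0 := by
    obtain ⟨z, hz, hz1⟩ := exists_ne_one_of_ne_bot h.ne_bot
    by_cases h0 : a (AbV.mk z hz) = 0
    · exact ⟨AbV.mk z hz, fun e => hz1 (congrArg AbV.val e), h0⟩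
    · exact ⟨_, h0, DFunLike.congr_fun ha _⟩
  have hk0 := sol5_quadratic_module (p := p) ι ρ h5
    (fun s g => (hr _).1 ⟨s, rfl⟩ g.1 g.2) hb hk hu hau
  rw [hk0, map_zero] at hk
  obtain ⟨w, hw, haw, hbw⟩ : ∃ w : AbV E, w ≠ 0 ∧ a w = 0 ∧ b w = 0 := by
    by_cases h0 : b u = 0
    · exact ⟨u, hu, hau, h0⟩
    · refine ⟨_, h0, ?_, DFunLike.congr_fun hb _⟩
      have := DFunLike.congr_fun hk u
      rw [LinearMap.add_apply, Module.End.mul_apply, Module.End.mul_apply, hau, map_zero,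
        add_zero] at this
      exact this.symm
  refine h.le_of_inf_ne_bot (le_norm_cent le_normalizer) (ne_bot_of_mem (x := w.val)
    (mem_inf.2 ⟨w.val_mem, ?_⟩) fun e => hw (AbV.val_eq_one.1 e))
  rw [cent_sup, cent_zpowers, cent_zpowers]
  exact ⟨(hfix x hx w).1 haw, (hfix y hy w).1 hbw⟩

theorem sol5_quadratic_pair_aux (hp : p.Prime) (hE : IsPGroup p E) {x y : G} (hx : x ∈ N[E])
    (hy : y ∈ N[E]) (qx : ⁅E, zpowers x⁆ ≤ C1[x]) (qy : ⁅E, zpowers y⁆ ≤ C1[y])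
    (h5 : 5 ≤ p) (ho : Group.IsSolvable ↥(zpowers x ⊔ zpowers y)) (hA : A ≤ zpowers x ⊔ zpowers y)
    (hAp : IsPiSubgroup {p}ᶜ A) : E ≤ C[A] := by
  induction hk : Nat.card E using Nat.strong_induction_on generalizing G with | _ k ih =>
  by_cases h0 : E = ⊥
  · rw [h0]; exact bot_le
  have hn : zpowers x ⊔ zpowers y ≤ N[E] := sup_le (zpowers_le.2 hx) (zpowers_le.2 hy)
  obtain ⟨M, hM, hMm⟩ := exists_minNormal_le
    (center_ne_bot_of_nilpotent (nilpotent_of_isPGroup hp hE) h0) (le_norm_inf hn (le_norm_cent hn))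
  have hME : M ≤ E := hM.trans inf_le_left
  have h1 := sol5_quadratic_pair_irr hp (hE.to_le hME) hMm
    ((commutator_mono hME le_rfl).trans qx) ((commutator_mono hME le_rfl).trans qy) h5 ho
  obtain ⟨Q, _, _, f, -, hkr⟩ := exists_quo' (E ⊔ (zpowers x ⊔ zpowers y)) M
    (hME.trans le_sup_left)
    (sup_le (le_norm_of_cent (le_cent_symm (hM.trans inf_le_right))) hMm.norm)
  have hlt : Nat.card (im f E) < k := hk ▸ card_im_lt le_sup_left (by
    rw [hkr, inf_eq_right.2 hME]; exact hMm.ne_bot)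
  have hxD : x ∈ E ⊔ (zpowers x ⊔ zpowers y) := mem_sup_right (mem_sup_left (mem_zpowers x))
  have hyD : y ∈ E ⊔ (zpowers x ⊔ zpowers y) := mem_sup_right (mem_sup_right (mem_zpowers y))
  have e : im f (zpowers x ⊔ zpowers y) = zpowers (f ⟨x, hxD⟩) ⊔ zpowers (f ⟨y, hyD⟩) := by
    rw [im_sup (zpowers_le.2 hxD) (zpowers_le.2 hyD), im_zpowers hxD, im_zpowers hyD]
  have hq : ∀ z (hz : z ∈ E ⊔ (zpowers x ⊔ zpowers y)), ⁅E, zpowers z⁆ ≤ C1[z] →
      ⁅im f E, zpowers (f ⟨z, hz⟩)⁆ ≤ C1[f ⟨z, hz⟩] := fun z hz h => by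
    rw [← cent_zpowers] at h ⊢
    rw [← im_zpowers hz, ← im_commutator le_sup_left (zpowers_le.2 hz)]
    exact im_cent h
  have h2 := ih _ hlt (isPGroup_im hE) (im_norm (zpowers_le.2 hx) (mem_im_of_mem hxD
    (mem_zpowers x))) (im_norm (zpowers_le.2 hy) (mem_im_of_mem hyD (mem_zpowers y)))
    (hq x hxD qx) (hq y hyD qy) (by rw [← e]; exact solvable_im ho) (by rw [← e]; exact im_mono hA)
    hAp.im rfl
  rw [im_le_cent_iff le_sup_left (hA.trans le_sup_right), hkr] at h2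
  exact le_cent_of_commutator_le_of_coprime h2 (h1.trans (cent_anti hA))
    ((isPi_of_isPGroup hp (hE.to_le hME)).coprime hAp)

/-- Two quadratic `p`-elements generating a group of odd order act as a `p`-group. -/
theorem sol5_quadratic_pair (hp : p.Prime) (hE : IsPGroup p E) {x y : G} (hx : x ∈ N[E])
    (hy : y ∈ N[E]) (qx : ⁅E, zpowers x⁆ ≤ C1[x]) (qy : ⁅E, zpowers y⁆ ≤ C1[y])
    (h5 : 5 ≤ p) (ho : Group.IsSolvable ↥(zpowers x ⊔ zpowers y)) :
    PiNat {p} (C[E].relIndex (zpowers x ⊔ zpowers y)) :=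
  piNat_relIndex_of_forall_syl_le fun _ _ hq _ hQ => le_cent_symm
    (sol5_quadratic_pair_aux hp hE hx hy qx qy h5 ho hQ.le (hQ.isPi.single_mono hq))

/-- `p`-stability for `H` normalizing `P`. -/
theorem sol5_p_stable' (hp : p.Prime) (h5 : 5 ≤ p) (hs : Group.IsSolvable H)
    (hP : IsPGroup p P) (hn : H ≤ N[P]) (hA : A ≤ H) (hq : ⁅⁅P, A⁆, A⁆ = ⊥) :
    A ≤ coreMod {p} (H ⊓ C[P]) H := by
  obtain ⟨Q, _, _, f, -, hk⟩ := exists_quo' H (H ⊓ C[P]) inf_le_left
    (le_norm_inf le_normalizer (le_norm_cent hn))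
  rw [← hk, ← pre_piCoreOf le_rfl kr_le]
  intro x hx
  have hxH := hA hx
  rw [mem_pre' hxH]
  refine baer_suzuki_solvable hp (solvable_im hs) (mem_im_of_mem hxH hxH) ?_
  intro g' hg'
  obtain ⟨g, hg, -, rfl⟩ := mem_im.1 hg'
  have hgx : g * x * g⁻¹ ∈ H := mul_mem (mul_mem hg hxH) (inv_mem hg)
  have e : f ⟨g, hg⟩ * f ⟨x, hxH⟩ * (f ⟨g, hg⟩)⁻¹ = f ⟨_, hgx⟩ := by
    rw [← map_inv, ← map_mul, ← map_mul]; rfl
  have hle : zpowers x ⊔ zpowers (g * x * g⁻¹) ≤ H := sup_le (zpowers_le.2 hxH) (zpowers_le.2 hgx)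
  have qx : ⁅P, zpowers x⁆ ≤ C1[x] := (commutator_mono le_rfl (zpowers_le.2 hx)).trans
    ((le_cent_iff_commutator_eq_bot.2 hq).trans (cent_le_cent1 hx))
  rw [e, ← im_zpowers hxH, ← im_zpowers hgx, ← im_sup (zpowers_le.2 hxH) (zpowers_le.2 hgx),
    ← isPiSubgroup_single_iff hp, isPiSubgroup_im_iff hle, hk, ← inf_relIndex_right, inf_comm H,
    inf_assoc, inf_eq_right.2 hle, inf_relIndex_right]
  refine sol5_quadratic_pair hp hP (hn hxH) (hn hgx) qx ?_ h5 (solv_of_le hs hle)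
  have := conj_mono g qx
  rwa [conj_commutator, conj_eq_self (hn hg), conj_zpowers, conj_cent1] at this

/-- BG A.4(c): `A C_H(P) / C_H(P) ≤ O_p(N_H(P) / C_H(P))`. -/
theorem sol5_p_stable (hp : p.Prime) (h5 : 5 ≤ p) (hs : Group.IsSolvable H)
    (hP : IsPGroup p P) (hA : A ≤ H ⊓ N[P]) (hq : ⁅⁅P, A⁆, A⁆ = ⊥) :
    A ≤ coreMod {p} (H ⊓ C[P]) (H ⊓ N[P]) := by
  have := sol5_p_stable' hp h5 (solv_of_le hs inf_le_left) hP
    inf_le_right hA hq
  rwa [inf_assoc, inf_eq_right.2 (cent_le_norm P)] at this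

/-- BG A.5.1, for one abelian subgroup normalized by `P`. -/
theorem sol5_abelian_stable (hp : p.Prime) (h5 : 5 ≤ p) (hs : Group.IsSolvable H)
    (hP : IsPGroup p P) (hn : H ≤ N[P]) (hA : A ≤ H) (hc : IsMulCommutative A)
    (hPA : P ≤ N[A]) : A ≤ coreMod {p} (H ⊓ C[P]) H :=
  sol5_p_stable' hp h5 hs hP hn hA (le_cent_iff_commutator_eq_bot.1
    ((commutator_le_of_le_norm_right hPA).trans (comm_iff_le_cent.1 hc)))

/-- BG A.5.2, for one abelian subgroup normalized by `P`. -/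
theorem sol5_abelian_constrained (hp : p.Prime) (h5 : 5 ≤ p) (hs : Group.IsSolvable H)
    (hP : IsPGroup p P) (hPH : P ≤ H) (hn : H ≤ N[P]) (h1 : piCoreOf {p}ᶜ H = ⊥)
    (h2 : piCoreOf {p} H ⊓ C[P] ≤ P) (hA : A ≤ H) (hc : IsMulCommutative A) (hPA : P ≤ N[A]) :
    A ≤ piCoreOf {p} H := by
  rw [← coreMod_cent_eq_piCoreOf hp hs hPH hn h1 h2]
  exact sol5_abelian_stable hp h5 hs hP hn hA hc hPA

/-- BG 6.1 = A.4(b). -/
theorem sol5_p_abelian_constrained (hp : p.Prime) (h5 : 5 ≤ p)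
    (hs : Group.IsSolvable H) (hS : IsPiHallOf {p} S H) (hA : A ≤ S) (hc : IsMulCommutative A)
    (hn : S ≤ N[A]) : A ≤ piCore2Of {p}ᶜ {p} H := by
  obtain ⟨Q, _, _, f, -, hk⟩ := exists_quo' H (piCoreOf {p}ᶜ H) (piCoreOf_le _ _)
    (self_le_norm_piCoreOf _ _)
  rw [← pre_piCoreOf_of_kr_eq le_rfl hk, ← im_le_iff (hA.trans hS.le)]
  exact sol5_abelian_constrained hp h5 (solvable_im hs) (piCoreOf_isPGroup hp _)
    (piCoreOf_le _ _) (self_le_norm_piCoreOf _ _) (piCoreOf_im_eq_bot le_rfl hk) inf_le_left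
    (im_mono (hA.trans hS.le)) (comm_im hc) ((piCoreOf_le_hall (hS.im le_rfl)).trans (im_norm hn))

/-- BG B.3. -/
theorem sol5_pcore_Sylow_Puig_sub (hp : p.Prime) (h5 : 5 ≤ p) (hs : Group.IsSolvable H)
    (hS : IsPiHallOf {p} S H) (h : piCoreOf {p}ᶜ H = ⊥) :
    puigInfOf S ≤ puigInfOf (piCoreOf {p} H) ∧ puigOf (piCoreOf {p} H) ≤ puigOf S := by
  have hT : piCoreOf {p} H ≤ S := piCoreOf_le_hall hS
  have hTp := piCoreOf_isPGroup hp H
  have key : ∀ n, puigAtOf S (2 * n) ≤ puigAtOf (piCoreOf {p} H) (2 * n) := by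
    intro n
    induction n with
    | zero => rw [puigAtOf_zero]; exact bot_le
    | succ n ih =>
      have h1 : puigAtOf (piCoreOf {p} H) (2 * n + 1) ≤ puigAtOf S (2 * n + 1) := by
        rw [puigAtOf_succ, puigAtOf_succ]; exact puigSucc_mono hT ih
      rw [show 2 * (n + 1) = 2 * n + 1 + 1 by ring, puigAtOf_succ S, puigAtOf_succ _ (2 * n + 1)]
      refine puigSucc_le_of_forall fun A a1 a2 a3 => le_puigSucc ?_ a2 (h1.trans a3)
      exact sol5_abelian_constrained hp h5 hs (hTp.to_le (puigAtOf_le _ _))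
        ((puigAtOf_le _ _).trans (piCoreOf_le _ _))
        ((self_le_norm_piCoreOf _ _).trans (norm_le_norm_puigAtOf _ _)) h
        (inf_cent_puigAtOf_le hp hTp _) (a1.trans hS.le) a2 (h1.trans a3)
  have h1 : puigInfOf S ≤ puigInfOf (piCoreOf {p} H) := by
    rw [puigInfOf_eq, puigInfOf_eq]; exact iSup_mono key
  refine ⟨h1, ?_⟩
  rw [puigOf_def, puigOf_def]
  exact puigSucc_mono hT h1

/-- BG B.4(b) = 6.2, second part. -/
theorem sol5_Puig_center_normal (hp : p.Prime) (h5 : 5 ≤ p) (hs : Group.IsSolvable H)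
    (hS : IsPiHallOf {p} S H) (h : piCoreOf {p}ᶜ H = ⊥) : H ≤ N[zPuigOf S] := by
  obtain ⟨h1, h2⟩ := sol5_pcore_Sylow_Puig_sub hp h5 hs hS h
  have hSp := syl_isPGroup hp hS
  have hTp := piCoreOf_isPGroup hp H
  have hT : piCoreOf {p} H ≤ S := piCoreOf_le_hall hS
  set Y := zPuigOf (piCoreOf {p} H) with hY
  have hZY : zPuigOf S ≤ Y := by
    refine le_inf ?_ (inf_le_right.trans (cent_anti h2))
    exact (le_inf (zPuigOf_le S) (inf_le_right.trans (cent_anti (puigInfOf_le_puigOf S)))).trans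
      ((inf_cent_puigInfOf_le hp hSp).trans (h1.trans (puigInfOf_le_puigOf _)))
  have hYn : H ≤ N[Y] := (self_le_norm_piCoreOf _ _).trans (norm_le_norm_zPuigOf _)
  have hYS : Y ≤ S := (zPuigOf_le _).trans hT
  have hCn : H ≤ N[H ⊓ C[Y]] := le_norm_inf le_normalizer (le_norm_cent hYn)
  set K := coreMod {p} (H ⊓ C[Y]) H with hK
  have hKH : K ≤ H := coreMod_le _ _ _
  have hKn : H ≤ N[K] := self_le_norm_coreMod hCn
  have hL : puigOf S ≤ S ⊓ K := by
    refine le_inf (puigOf_le S) ?_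
    rw [puigOf_def]
    exact puigSucc_le_of_forall fun A a1 a2 a3 => sol5_abelian_stable hp h5 hs (hSp.to_le hYS) hYn
      (a1.trans hS.le) a2 ((abelian_norm_Puig hYS (zPuigOf_comm _) (hS.le.trans hYn)).1.trans a3)
  have e1 : zPuigOf (S ⊓ K) = zPuigOf S := by
    rw [zPuigOf, sub_Puig_eq inf_le_left hL]; rfl
  have hSK := hS.inf_normal hKH hKn
  have e2 : (H ⊓ C[Y]) ⊔ (S ⊓ K) = K :=
    hSK.sup_eq_of_idx (self_le_coreMod inf_le_left hCn) (coreMod_relIndex inf_le_left hCn)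
  rw [← frattini_arg hp hSK hKH hKn]
  refine sup_le (e2.ge.trans (sup_le ?_ ?_)) ?_
  · exact le_norm_of_cent (inf_le_right.trans (cent_anti hZY))
  · exact inf_le_left.trans (le_normalizer.trans (norm_le_norm_zPuigOf S))
  · rw [← e1]; exact inf_le_right.trans (norm_le_norm_zPuigOf _)

/-- BG 6.2, main statement. -/
theorem sol5_Puig_center_p'core_normal (hp : p.Prime) (h5 : 5 ≤ p)
    (hs : Group.IsSolvable H) (hS : IsPiHallOf {p} S H) :
    H ≤ N[piCoreOf {p}ᶜ H ⊔ zPuigOf S] := by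
  obtain ⟨Q, _, _, f, -, hk⟩ := exists_quo' H (piCoreOf {p}ᶜ H) (piCoreOf_le _ _)
    (self_le_norm_piCoreOf _ _)
  have h1 := sol5_Puig_center_normal hp h5 (solvable_im hs) (hS.im (f := f) le_rfl)
    (piCoreOf_im_eq_bot le_rfl hk)
  rw [← im_zPuigOf hS.le (by rw [hk]; exact hS.isPi.inf_eq_bot (piCoreOf_isPi _ _)),
    im_le_norm_iff le_rfl ((zPuigOf_le S).trans hS.le), hk, sup_comm] at h1
  exact h1

/-- BG B.4(a) = 6.2, first part. -/
theorem sol5_Puig_factorisation (hp : p.Prime) (h5 : 5 ≤ p) (hs : Group.IsSolvable H)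
    (hS : IsPiHallOf {p} S H) : piCoreOf {p}ᶜ H ⊔ (H ⊓ N[zPuigOf S]) = H := by
  have h1 := sol5_Puig_center_p'core_normal hp h5 hs hS
  have hZ : zPuigOf S ≤ H := (zPuigOf_le S).trans hS.le
  have h2 : IsPiHallOf {p} (zPuigOf S) (piCoreOf {p}ᶜ H ⊔ zPuigOf S) :=
    isPiHallOf_sup_right (Or.inr (hZ.trans (self_le_norm_piCoreOf _ _))) (piCoreOf_isPi _ _)
      (hS.isPi.of_le (zPuigOf_le S))
  have h3 := frattini_arg hp h2 (sup_le (piCoreOf_le _ _) hZ) h1
  rwa [sup_assoc, sup_eq_right.2 (le_inf hZ le_normalizer)] at h3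

end Cfsg.Agent.GT
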